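import Groth.Agent.Fano.K470.CurDef
import Groth.Agent.Fano.K714.Codim
import Mathlib.Topology.NoetherianSpace

/-!
# Closures and irreducible components of subsets of vector spaces (node TOP of `K470.PlanTool`)
-/

set_option autoImplicit false

universe u

namespace K461.Top

open LefPen Groth.Agent.Lefpen.H703.ZOpen Module K714.Irr K714.Frames K470.Cur

variable {k : Type u} [Field k]
variable {V W : Type u} [AddCommGroup V] [Module k V] [AddCommGroup W] [Module k W]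

/-! ### closures -/

theorem subset_cl (S : Set V) : S ⊆ Cl k S := fun v hv _ _ hO => ⟨v, hv, hO⟩

theorem cl_mono {S S' : Set V} (h : S ⊆ S') : Cl k S ⊆ Cl k S' := fun _ hv O hO hvO =>
  (hv O hO hvO).mono (Set.inter_subset_inter_left _ h)

theorem isZOpen_compl_cl (S : Set V) : IsZOpen k (Cl k S)ᶜ := by
  refine isZOpen_of_local fun v hv => ?_
  have hv' : ¬ ∀ O : Set V, IsZOpen k O → v ∈ O → (S ∩ O).Nonempty := hv
  push Not at hv'
  obtain ⟨O, hO, hvO, he⟩ := hv'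
  refine ⟨O, hO, hvO, fun w hw hwc => ?_⟩
  have := hwc O hO hw
  rw [he] at this
  exact this.ne_empty rfl

theorem cl_subset {S X : Set V} (h : S ⊆ X) (hX : IsZOpen k Xᶜ) : Cl k S ⊆ X := by
  intro v hv
  by_contra hvX
  obtain ⟨w, hw, hwX⟩ := hv Xᶜ hX hvX
  exact hwX (h hw)

theorem cl_cl (S : Set V) : Cl k (Cl k S) = Cl k S :=
  (cl_subset subset_rfl (isZOpen_compl_cl S)).antisymm (subset_cl _)

theorem mem_cl_iff {S : Set V} {v : V} : v ∈ Cl k S ↔ ∀ f : V → k, IsPolyFun k f → (∀ s ∈ S, f s = 0) → f v = 0 := by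
  constructor
  · intro hv f hf hfS
    by_contra hfv
    obtain ⟨w, hw, hwf⟩ := hv _ (isZOpen_basic hf) hfv
    exact hwf (hfS w hw)
  · intro h O hO hvO
    obtain ⟨f, hf, hfv, hfO⟩ := hO v hvO
    by_contra hne
    refine hfv (h f hf fun s hs => ?_)
    by_contra hfs
    exact hne ⟨s, hs, hfO s hfs⟩

theorem cl_inter_open {S O : Set V} (hS : Irr k S) (hO : IsZOpen k O) (h : (S ∩ O).Nonempty) :
    Cl k (S ∩ O) = Cl k S := by
  refine (cl_mono Set.inter_subset_left).antisymm fun v hv O' hO' hvO' => ?_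
  obtain ⟨w, hw, hw1, hw2⟩ := hS.2 O O' hO hO' h (hv O' hO' hvO')
  exact ⟨w, ⟨hw, hw1⟩, hw2⟩

theorem cl_image {S : Set V} {φ : V → W} (hφ : IsPolyMap k φ) {v : V} (hv : v ∈ Cl k S) : φ v ∈ Cl k (φ '' S) := by
  intro O hO hvO
  obtain ⟨w, hw, hwO⟩ := hv _ (zo_preimage hO hφ) hvO
  exact ⟨φ w, ⟨w, hw, rfl⟩, hwO⟩

/-- continuity of maps with denominators -/
theorem cl_rat {S : Set V} {R : Set W} {δ : V → k} (hδ : IsPolyFun k δ) {Q P : V → W} (hQ : IsPolyMap k Q)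
    (hP : IsPolyMap k P) (h : ∀ s ∈ S, δ s ≠ 0 → Q s + (δ s)⁻¹ • P s ∈ Cl k R) {v : V} (hv : v ∈ Cl k S)
    (h0 : δ v ≠ 0) : Q v + (δ v)⁻¹ • P v ∈ Cl k R := by
  intro O hO hvO
  obtain ⟨w, hw, hw1, hw2⟩ := hv _ (isZOpen_rat hO hδ hQ hP) ⟨h0, hvO⟩
  exact h w hw hw1 O hO hw2

theorem irr_cl {S : Set V} (hS : Irr k S) : Irr k (Cl k S) :=
  hS.of_dense (subset_cl S) fun _ hv O hO hvO => hv O hO hvO

theorem irr_of_cl {S : Set V} (hS : Irr k (Cl k S)) : Irr k S := by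
  obtain ⟨v, hv⟩ := hS.1
  refine ⟨?_, fun O O' hO hO' h h' => ?_⟩
  · obtain ⟨w, hw, -⟩ := hv _ isZOpen_univ trivial
    exact ⟨w, hw⟩
  · obtain ⟨w, hw, hwO⟩ := hS.2 O O' hO hO' (h.mono (Set.inter_subset_inter_left _ (subset_cl S)))
      (h'.mono (Set.inter_subset_inter_left _ (subset_cl S)))
    exact hw _ (zo_inter hO hO') hwO

/-- image of an irreducible set under a map with denominators -/
theorem irr_rat {S : Set V} (hS : Irr k S) {δ : V → k} (hδ : IsPolyFun k δ) {Q P : V → W} (hQ : IsPolyMap k Q)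
    (hP : IsPolyMap k P) (h : ∃ s ∈ S, δ s ≠ 0) :
    Irr k ((fun v => Q v + (δ v)⁻¹ • P v) '' (S ∩ {v | δ v ≠ 0})) := by
  obtain ⟨s, hs, hδs⟩ := h
  refine ⟨⟨_, s, ⟨hs, hδs⟩, rfl⟩, ?_⟩
  rintro O O' hO hO' ⟨_, ⟨a, ⟨ha, haδ⟩, rfl⟩, haO⟩ ⟨_, ⟨b, ⟨hb, hbδ⟩, rfl⟩, hbO⟩
  obtain ⟨c, hc, ⟨hcδ, hc1⟩, -, hc2⟩ := hS.2 _ _ (isZOpen_rat hO hδ hQ hP) (isZOpen_rat hO' hδ hQ hP)
    ⟨a, ha, haδ, haO⟩ ⟨b, hb, hbδ, hbO⟩
  exact ⟨_, ⟨c, ⟨hc, hcδ⟩, rfl⟩, hc1, hc2⟩

/-- products of finitely many irreducible sets -/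
theorem irr_pi {n : ℕ} {S : Fin n → Set W} (hS : ∀ i, Irr k (S i)) :
    Irr k {w : Fin n → W | ∀ i, w i ∈ S i} := by
  induction n with
  | zero =>
    refine ⟨⟨0, fun i => i.elim0⟩, ?_⟩
    rintro O O' - - ⟨v, hv, hvO⟩ ⟨w, -, hwO⟩
    obtain rfl : w = v := Subsingleton.elim _ _
    exact ⟨w, hv, hvO, hwO⟩
  | succ n ih =>
    let φ : (W × (Fin n → W)) →ₗ[k] (Fin (n + 1) → W) :=
      { toFun := fun p => Fin.cons p.1 p.2
        map_add' := fun p q => by
          funext i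
          refine Fin.cases ?_ (fun j => ?_) i
          · simp
          · simp
        map_smul' := fun c p => by
          funext i
          refine Fin.cases ?_ (fun j => ?_) i
          · simp
          · simp }
    have h1 := (((hS 0).prod (ih (S := fun i => S i.succ) fun i => hS i.succ)).image (isPolyMap_linear φ))
    have h2 : φ '' {p : W × (Fin n → W) | p.1 ∈ S 0 ∧ p.2 ∈ {w : Fin n → W | ∀ i, w i ∈ S i.succ}} =
        {w : Fin (n + 1) → W | ∀ i, w i ∈ S i} := by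
      ext w
      constructor
      · rintro ⟨p, ⟨hp1, hp2⟩, rfl⟩ i
        refine Fin.cases ?_ (fun j => ?_) i
        · exact hp1
        · exact hp2 j
      · intro hw
        refine ⟨(w 0, fun j => w j.succ), ⟨hw 0, fun j => hw j.succ⟩, ?_⟩
        exact Fin.cons_self_tail w
    rwa [h2] at h1

/-- points are irreducible -/
theorem irr_singleton (v : V) : Irr k ({v} : Set V) := by
  refine ⟨⟨v, rfl⟩, ?_⟩
  rintro O O' - - ⟨_, rfl, h⟩ ⟨_, rfl, h'⟩
  exact ⟨_, rfl, h, h'⟩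

/-! ### components -/

theorem isComp_closed {X C : Set V} (hX : IsZOpen k Xᶜ) (hC : IsComp k X C) : IsZOpen k Cᶜ := by
  have h : Cl k C = C := hC.2.2 _ (cl_subset hC.1 hX) (irr_cl hC.2.1) (subset_cl C)
  rw [← h]
  exact isZOpen_compl_cl C

variable (k V) in
/-- the Zariski topology -/
abbrev zTop : TopologicalSpace V where
  IsOpen := IsZOpen k
  isOpen_univ := isZOpen_univ
  isOpen_inter _ _ h h' := zo_inter h h'
  isOpen_sUnion s hs := by
    rw [Set.sUnion_eq_iUnion]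
    exact isZOpen_iUnion fun i => hs i.1 i.2

theorem isIrreducible_iff (S : Set V) : @IsIrreducible V (zTop k V) S ↔ Irr k S := Iff.rfl

theorem isClosed_iff (S : Set V) : @IsClosed V (zTop k V) S ↔ IsZOpen k Sᶜ := by
  letI := zTop k V
  exact isOpen_compl_iff.symm

instance [FiniteDimensional k V] : IsNoetherianRing (polyFunAlg k V) :=
  isNoetherianRing_of_surjective _ _ (K714.Codim.coordHom (Module.finBasis k V)).toRingHom
    (K714.Codim.coordHom_surjective (Module.finBasis k V))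

/-- closed sets satisfy the descending chain condition -/
theorem noetherianSpace [FiniteDimensional k V] : @TopologicalSpace.NoetherianSpace V (zTop k V) := by
  letI := zTop k V
  have key : ∀ S S' : TopologicalSpace.Opens V,
      vanishingFun k ((S' : Set V)ᶜ) ≤ vanishingFun k ((S : Set V)ᶜ) → (S' : Set V) ⊆ S := by
    intro S S' h v hv
    obtain ⟨f, hf, hfv, hfS⟩ := S'.2 v hv
    by_contra hvS
    exact hfv (h (x := ⟨f, hf⟩) (fun w hw => by
      by_contra hfw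
      exact hw (hfS w hfw)) v hvS)
  have hmono : ∀ S S' : TopologicalSpace.Opens V, S < S' →
      vanishingFun k ((S : Set V)ᶜ) < vanishingFun k ((S' : Set V)ᶜ) := by
    intro S S' h
    refine lt_of_le_not_ge ?_ fun hle => h.not_ge (key S S' hle)
    intro f hf v hv
    exact hf v fun hvS => hv (h.le hvS)
  have hwf : WellFounded fun I J : Ideal (polyFunAlg k V) => I > J := wellFounded_gt
  exact ⟨Subrelation.wf (fun {S S'} (h : S > S') => hmono S' S h)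
    (InvImage.wf (fun S : TopologicalSpace.Opens V => vanishingFun k ((S : Set V)ᶜ)) hwf)⟩

/-- a closed set is a finite union of closed irreducible sets -/
theorem exists_decomp [FiniteDimensional k V] {X : Set V} (hX : IsZOpen k Xᶜ) :
    ∃ S : Set (Set V), S.Finite ∧ (∀ t ∈ S, t ⊆ X) ∧ (∀ t ∈ S, IsZOpen k tᶜ) ∧ (∀ t ∈ S, Irr k t) ∧
      ∀ Z : Set V, Irr k Z → Z ⊆ X → ∃ t ∈ S, Z ⊆ t := by
  letI := zTop k V
  haveI := noetherianSpace (k := k) (V := V)
  obtain ⟨S, hSf, hSc, hSi, hSX⟩ :=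
    TopologicalSpace.NoetherianSpace.exists_finite_set_isClosed_irreducible ((isClosed_iff X).2 hX)
  refine ⟨S, hSf, fun t ht => ?_, fun t ht => (isClosed_iff t).1 (hSc t ht), fun t ht => hSi t ht, ?_⟩
  · rw [hSX]
    exact Set.subset_sUnion_of_mem ht
  · intro Z hZ hZX
    lift S to Finset (Set V) using hSf
    obtain ⟨t, ht, hZt⟩ := isIrreducible_iff_sUnion_isClosed.1 ((isIrreducible_iff Z).2 hZ) S hSc (hSX ▸ hZX)
    exact ⟨t, ht, hZt⟩

theorem exists_comp [FiniteDimensional k V] {X S : Set V} (hX : IsZOpen k Xᶜ) (hS : Irr k S) (h : S ⊆ X) :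
    ∃ C, IsComp k X C ∧ S ⊆ C := by
  obtain ⟨𝒮, hf, hsub, hcl, hirr, hcov⟩ := exists_decomp hX
  have hf' : {t ∈ 𝒮 | S ⊆ t}.Finite := hf.subset fun t ht => ht.1
  obtain ⟨t0, ht0, hSt0⟩ := hcov S hS h
  obtain ⟨C, hSC, hC⟩ := hf'.exists_le_maximal (a := t0) ⟨ht0, hSt0⟩
  have hC1 : C ∈ 𝒮 ∧ S ⊆ C := hC.prop
  refine ⟨C, ⟨hsub C hC1.1, hirr C hC1.1, fun C' hC'X hC' hCC' => ?_⟩, hC1.2⟩
  obtain ⟨t, ht, hC't⟩ := hcov C' hC' hC'X
  have h1 : t ⊆ C := hC.le_of_ge (y := t) ⟨ht, hC1.2.trans (hCC'.trans hC't)⟩ (hCC'.trans hC't)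
  exact (hC't.trans h1).antisymm hCC'

theorem finite_comps [FiniteDimensional k V] {X : Set V} (hX : IsZOpen k Xᶜ) : {C | IsComp k X C}.Finite := by
  obtain ⟨𝒮, hf, hsub, hcl, hirr, hcov⟩ := exists_decomp hX
  refine hf.subset fun C hC => ?_
  obtain ⟨t, ht, hCt⟩ := hcov C hC.2.1 hC.1
  have h1 : t = C := hC.2.2 t (hsub t ht) (hirr t ht) hCt
  exact h1 ▸ ht

theorem mem_comp [FiniteDimensional k V] {X : Set V} (hX : IsZOpen k Xᶜ) {v : V} (hv : v ∈ X) :
    ∃ C, IsComp k X C ∧ v ∈ C := by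
  obtain ⟨C, hC, h⟩ := exists_comp hX (irr_singleton (k := k) v) (Set.singleton_subset_iff.2 hv)
  exact ⟨C, hC, h rfl⟩

end K461.Top
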